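import Groth.Agent.AlgSpD.MonoPoint
import Groth.Agent.AlgSpD.DecentCrit
import Groth.Agent.AlgSpB.OpenGlue
import Groth.Agent.S10393
import Groth.Agent.AlgSpB.Bootstrap
import Groth.Agent.S10355
import Mathlib.AlgebraicGeometry.Artinian
import Mathlib.AlgebraicGeometry.ZariskisMainTheorem

/-!
# Algebraic spaces locally quasi-finite over a field are schemes

* `exists_iso_yon_of_lqf`: such a space is a scheme locally quasi-finite over the field.
-/

set_option autoImplicit false
set_option backward.isDefEq.respectTransparency false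

universe u

open CategoryTheory CategoryTheory.Limits AlgebraicGeometry Topology TopologicalSpace

namespace Groth.Agent.AlgSpCov.LqfField

open Groth.Agent
open _root_.AlgSp

variable {k : Type u} [Field k] {X : AlgSp.Space (Spec (CommRingCat.of k))}
  (p : X.obj ⟶ (AlgSp.yon (Spec (CommRingCat.of k))).obj (Over.mk (𝟙 _)))
  (hp : AlgSp.LocP (@LocallyQuasiFinite ⊓ @LocallyOfFiniteType : MorphismProperty Scheme.{u}) p)

include hp in
theorem lqf_chart {U : Over (Spec (CommRingCat.of k))} {a : (AlgSp.yon (Spec (CommRingCat.of k))).obj U ⟶ X.obj}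
    (ha : AlgSp.RepWith @Etale a) : LocallyQuasiFinite U.hom ∧ LocallyOfFiniteType U.hom := by
  obtain ⟨g, hg⟩ := (AlgSp.yon (Spec (CommRingCat.of k))).map_surjective (a ≫ p)
  have := hp a (𝟙 _) g ha (AlgSp.repWith_id _ _) (by rw [Category.comp_id, hg])
  have e : g.left = U.hom := by simpa using Over.w g
  rwa [e] at this

theorem discreteTopology_of_lqf {U : Over (Spec (CommRingCat.of k))} [LocallyQuasiFinite U.hom] :
    DiscreteTopology ↥U.left := by
  have := U.hom.isDiscrete_preimage_singleton (IsLocalRing.closedPoint k)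
  rw [← isDiscrete_univ_iff]
  refine this.mono fun x _ => ?_
  exact @Subsingleton.elim _ (inferInstanceAs (Subsingleton (PrimeSpectrum k))) _ _

include p hp

theorem isOpen_singleton (x : AlgSp.Points X.obj) : IsOpen ({x} : Set (AlgSp.Points X.obj)) := by
  refine AlgSp.Points.isOpen_iff.2 fun T g => ?_
  obtain ⟨U, a, u, ha, rfl⟩ := AlgSpD.exists_chart X x
  have := (lqf_chart p hp ha).1
  have := discreteTopology_of_lqf (U := U)
  have ho : IsOpen (AlgSp.Points.ofPt a '' {u}) := AlgSpB.isOpenMap_ofPt ha _ (isOpen_discrete _)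
  rw [Set.image_singleton] at ho
  exact ho.preimage (AlgSp.Points.continuous_ofPt g)

theorem finite_of_affine {U : Over (Spec (CommRingCat.of k))} [IsAffine U.left]
    {a : (AlgSp.yon (Spec (CommRingCat.of k))).obj U ⟶ X.obj} (ha : AlgSp.RepWith @Etale a) :
    Finite ↥U.left := by
  have := (lqf_chart p hp ha).1
  have := discreteTopology_of_lqf (U := U)
  exact finite_of_compact_of_discrete

theorem isDecent_of_lqf : AlgSp.IsDecent X.obj := by
  intro x
  obtain ⟨U, a, u, hU, ha, rfl⟩ := AlgSpD.exists_affine_chart X x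
  obtain ⟨R, t, s, hR⟩ := AlgSpB.exists_pullback_yon ha.1 a
  have := finite_of_affine p hp ha
  have := (lqf_chart p hp ha).1
  have : QuasiCompact U.hom := (quasiCompact_iff_compactSpace U.hom).2 inferInstance
  have : Finite ↥(pullback U.hom U.hom) := by
    have : LocallyQuasiFinite (pullback.fst U.hom U.hom ≫ U.hom) :=
      MorphismProperty.comp_mem @LocallyQuasiFinite _ _ (MorphismProperty.pullback_fst _ _ inferInstance) inferInstance
    refine Set.finite_univ_iff.1 (((pullback.fst U.hom U.hom ≫ U.hom).finite_preimage_singleton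
      (IsLocalRing.closedPoint k)).subset fun z _ => ?_)
    exact @Subsingleton.elim _ (inferInstanceAs (Subsingleton (PrimeSpectrum k))) _ _
  have hw : t.left ≫ U.hom = s.left ≫ U.hom := by rw [Over.w t, Over.w s]
  let m : R.left ⟶ pullback U.hom U.hom := pullback.lift t.left s.left hw
  have : Mono m := ⟨fun {Z} g₁ g₂ e => by
    have e1 : g₁ ≫ t.left = g₂ ≫ t.left := by simpa [m] using congrArg (· ≫ pullback.fst _ _) e
    have e2 : g₁ ≫ s.left = g₂ ≫ s.left := by simpa [m] using congrArg (· ≫ pullback.snd _ _) e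
    have hz : g₁ ≫ R.hom = g₂ ≫ R.hom := by rw [← Over.w t, reassoc_of% e1]
    let Z' : Over (Spec (CommRingCat.of k)) := Over.mk (g₁ ≫ R.hom)
    let G₁ : Z' ⟶ R := Over.homMk g₁ rfl
    let G₂ : Z' ⟶ R := Over.homMk g₂ hz.symm
    have : G₁ = G₂ := (AlgSp.yon _).map_injective (hR.hom_ext
      (by rw [← Functor.map_comp, ← Functor.map_comp]; exact congrArg _ (Over.OverMorphism.ext e1))
      (by rw [← Functor.map_comp, ← Functor.map_comp]; exact congrArg _ (Over.OverMorphism.ext e2)))
    exact congrArg (fun G : Z' ⟶ R => G.left) this⟩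
  have : Finite ↥R.left := Finite.of_injective m m.injective
  obtain ⟨q, hq, hm, -⟩ := AlgSpD.exists_mono_of_chart X a ha s t hR u (Set.toFinite _)
  exact ⟨q, hq, hm, AlgSpD.repWith_quasiCompact_of_finite' X q hm fun V b hV hb =>
    have := finite_of_affine p hp hb; Set.toFinite _⟩

theorem isRepresentable_of_lqf : X.obj.obj.IsRepresentable := by
  have hdec := isDecent_of_lqf p hp
  obtain ⟨X', j, hj, hrep, hmax⟩ := AlgSpB.exists_largest_open_subscheme X
  have hsurj : Set.range (AlgSp.Points.map j.hom) = Set.univ := by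
    refine Set.eq_univ_of_forall fun x => ?_
    obtain ⟨X'', j'', hj'', hr⟩ := AlgSpB.exists_openSubspace X (isOpen_singleton p hp x)
    have := AlgSpB.mono_of_isOpenImmersion hj''
    have : Subsingleton (AlgSp.Points X''.obj) := ⟨fun a b => AlgSpB.injective_map_of_mono j''.hom
      ((hr.le ⟨a, rfl⟩ : _ ∈ ({x} : Set _)).trans (hr.le ⟨b, rfl⟩ : _ ∈ ({x} : Set _)).symm)⟩
    obtain ⟨z, hz⟩ : x ∈ Set.range (AlgSp.Points.map j''.hom) := by rw [hr]; rfl
    have : Nonempty (AlgSp.Points X''.obj) := ⟨z⟩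
    obtain ⟨k', hk⟩ := hmax X'' j'' hj''
      (S10355.result X'' (AlgSpD.isDecent_of_representable j''.hom hj''.1 hdec))
    refine ⟨AlgSp.Points.map k'.hom z, ?_⟩
    rw [← AlgSp.Points.map_comp, ← hz, ← hk]
    rfl
  obtain ⟨l, hl⟩ := (AlgSpB.exists_factor_isOpenImmersion_iff hj (𝟙 X.obj)).2
    (by rw [hsurj]; exact Set.subset_univ _)
  have := AlgSpB.mono_of_isOpenImmersion hj
  obtain ⟨M, ⟨e⟩⟩ := AlgSpB.exists_iso_of_isRepresentable hrep
  exact AlgSpB.isRepresentable_of_iso (e ≪≫ ⟨j.hom, l, by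
    rw [← cancel_mono j.hom, Category.assoc, hl, Category.comp_id, Category.id_comp], hl⟩)

theorem exists_iso_yon_of_lqf : ∃ (U : Over (Spec (CommRingCat.of k)))
    (_ : (AlgSp.yon (Spec (CommRingCat.of k))).obj U ≅ X.obj), LocallyQuasiFinite U.hom ∧ LocallyOfFiniteType U.hom := by
  obtain ⟨U, ⟨e⟩⟩ := AlgSpB.exists_iso_of_isRepresentable (isRepresentable_of_lqf p hp)
  exact ⟨U, e, lqf_chart p hp (AlgSpB.repWith_of_isIso (P := @Etale) e.hom)⟩

omit p hp in
theorem exists_local_artinian {U : Over (Spec (CommRingCat.of k))} [LocallyQuasiFinite U.hom]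
    [LocallyOfFiniteType U.hom] (u : ↥U.left) : ∃ V : U.left.Opens,
        u ∈ V ∧ IsAffineOpen V ∧ IsArtinianRing ↥Γ(U.left, V) ∧ IsLocalRing ↥Γ(U.left, V) ∧
          IsFinite (V.ι ≫ U.hom) := by
  have := discreteTopology_of_lqf (U := U)
  obtain ⟨V, hV, huV, hVu⟩ := exists_isAffineOpen_mem_and_subset (x := u)
    (U := (⟨{u}, isOpen_discrete _⟩ : U.left.Opens)) rfl
  have : IsLocallyArtinian U.left := IsLocallyArtinian.of_locallyQuasiFinite U.hom
  have : IsAffine V.toScheme := hV
  have : QuasiCompact (V.ι ≫ U.hom) := (quasiCompact_iff_compactSpace _).2 inferInstance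
  refine ⟨V, huV, hV, IsLocallyArtinian.isArtinianRing_presheaf_obj (U := ⟨V, hV⟩), ?_, IsFinite.of_locallyQuasiFinite _⟩
  have h1 : Subsingleton ↥(Spec Γ(U.left, V)) := ⟨fun a b => hV.fromSpec.isOpenEmbedding.injective (by
    have ha : hV.fromSpec a ∈ ({u} : Set ↥U.left) := hVu (hV.range_fromSpec.le (Set.mem_range_self a))
    have hb : hV.fromSpec b ∈ ({u} : Set ↥U.left) := hVu (hV.range_fromSpec.le (Set.mem_range_self b))
    exact ha.trans hb.symm)⟩
  have : Nontrivial Γ(U.left, V) := by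
    have : Nonempty V := ⟨⟨u, huV⟩⟩
    infer_instance
  refine IsLocalRing.of_unique_max_ideal ?_
  obtain ⟨m, hm⟩ := Ideal.exists_maximal Γ(U.left, V)
  exact ⟨m, hm, fun m' hm' => congrArg PrimeSpectrum.asIdeal
    (@Subsingleton.elim _ h1 (⟨m', hm'.isPrime⟩ : PrimeSpectrum Γ(U.left, V)) ⟨m, hm.isPrime⟩)⟩

end Groth.Agent.AlgSpCov.LqfField
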