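import Groth.Agent.AlgSpCov.LqfField.Basic
import Groth.Agent.AlgSpCov.LocPBasic
import Groth.Agent.AlgSpCov.Listed
import Groth.Agent.S6373
import Mathlib.Algebra.Category.Ring.Epi

/-!
# Monomorphisms into artinian schemes

* `surjective_of_epi`: an epimorphism from an artinian local ring is surjective.
* `lqf_of_mono`: a monomorphism into a scheme locally quasi-finite over a field keeps this property.
-/

set_option autoImplicit false
set_option backward.isDefEq.respectTransparency false

universe u

open CategoryTheory CategoryTheory.Limits AlgebraicGeometry Topology TopologicalSpace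

namespace Groth.Agent.AlgSpCov.LqfField

open Groth.Agent

theorem surjective_of_epi {A B : CommRingCat.{u}} (φ : A ⟶ B) [Epi φ] [IsArtinianRing A] [IsLocalRing A] :
    Function.Surjective φ.hom := by
  let m := IsLocalRing.maximalIdeal A
  let J : Ideal B := m.map φ.hom
  let ρ : CommRingCat.of (IsLocalRing.ResidueField A) ⟶ CommRingCat.of (B ⧸ J) :=
    CommRingCat.ofHom (Ideal.quotientMap J φ.hom Ideal.le_comap_map)
  let π : A ⟶ CommRingCat.of (IsLocalRing.ResidueField A) := CommRingCat.ofHom (IsLocalRing.residue A)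
  let π' : B ⟶ CommRingCat.of (B ⧸ J) := CommRingCat.ofHom (Ideal.Quotient.mk J)
  have e : π ≫ ρ = φ ≫ π' := by ext x; rfl
  have hπ' : Epi π' := ConcreteCategory.epi_of_surjective π' Ideal.Quotient.mk_surjective
  have : Epi (φ ≫ π') := epi_comp _ _
  have : Epi ρ := by rw [← e] at this; exact epi_of_epi π ρ
  have hρ : Epi ρ := this
  letI := ρ.hom.toAlgebra
  have : Algebra.IsEpi (IsLocalRing.ResidueField A) (B ⧸ J) :=
    CommRingCat.epi_iff_epi.1 (show Epi (CommRingCat.ofHom (algebraMap (IsLocalRing.ResidueField A) (B ⧸ J))) from hρ)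
  have hsurj : Function.Surjective ρ.hom := by
    rcases S6373.result (IsLocalRing.ResidueField A) (B ⧸ J) with h | h
    · exact fun x => ⟨0, Subsingleton.elim _ _⟩
    · exact h.2
  have key : ∀ n : ℕ, ∀ b : B, ∃ a : A, b - φ.hom a ∈ (m ^ n).map φ.hom := by
    intro n
    induction n with
    | zero => exact fun b => ⟨0, by rw [pow_zero, Ideal.one_eq_top, Ideal.map_top]; exact Submodule.mem_top⟩
    | succ n ih =>
      have step : ∀ z ∈ (m ^ n).map φ.hom, ∃ a : A, z - φ.hom a ∈ (m ^ (n + 1)).map φ.hom := by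
        intro z hz
        rw [Ideal.map] at hz
        induction hz using Submodule.span_induction with
        | mem x hx => obtain ⟨a, -, rfl⟩ := hx; exact ⟨a, by simp⟩
        | zero => exact ⟨0, by simp⟩
        | add x y _ _ hx hy =>
          obtain ⟨a, ha⟩ := hx
          obtain ⟨b, hb⟩ := hy
          exact ⟨a + b, by rw [map_add, add_sub_add_comm]; exact Ideal.add_mem _ ha hb⟩
        | smul c x hx' hx =>
          obtain ⟨a, ha⟩ := hx
          obtain ⟨cb, hcb⟩ := hsurj (Ideal.Quotient.mk J c)
          obtain ⟨c', rfl⟩ := IsLocalRing.residue_surjective cb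
          have hc : c - φ.hom c' ∈ J := Ideal.Quotient.eq.1 hcb.symm
          refine ⟨c' * a, ?_⟩
          have h1 : (c - φ.hom c') * x ∈ (m ^ (n + 1)).map φ.hom := by
            rw [pow_succ', Ideal.map_mul]; exact Ideal.mul_mem_mul hc hx'
          have h2 : c • x - φ.hom (c' * a) = (c - φ.hom c') * x + φ.hom c' * (x - φ.hom a) := by
            rw [smul_eq_mul, map_mul]; ring
          rw [h2]
          exact Ideal.add_mem _ h1 (Ideal.mul_mem_left _ _ ha)
      intro b
      obtain ⟨a, ha⟩ := ih b
      obtain ⟨a', ha'⟩ := step _ ha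
      exact ⟨a + a', by rw [map_add, ← sub_sub]; exact ha'⟩
  obtain ⟨n, hn⟩ := (IsArtinianRing.isNilpotent_jacobson_bot (R := A))
  intro b
  obtain ⟨a, ha⟩ := key n b
  rw [IsLocalRing.jacobson_eq_maximalIdeal ⊥ bot_ne_top] at hn
  rw [show m ^ n = (⊥ : Ideal A) from hn, Ideal.map_bot, Ideal.mem_bot, sub_eq_zero] at ha
  exact ⟨a, ha.symm⟩

/-- A monomorphism into a scheme locally quasi-finite over a field keeps this property. -/
theorem lqf_of_mono {k : Type u} [Field k] {M U : Scheme.{u}} (g : M ⟶ U) [Mono g]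
    (q : U ⟶ Spec (CommRingCat.of k)) [LocallyQuasiFinite q] [LocallyOfFiniteType q] :
    LocallyQuasiFinite (g ≫ q) ∧ LocallyOfFiniteType (g ≫ q) := by
  have : LocallyQuasiFinite (Over.mk q).hom := ‹LocallyQuasiFinite q›
  have : LocallyOfFiniteType (Over.mk q).hom := ‹LocallyOfFiniteType q›
  have : DiscreteTopology ↥U := discreteTopology_of_lqf (U := Over.mk q)
  have hA : IsLocallyArtinian U := IsLocallyArtinian.of_locallyQuasiFinite q
  have hd : DiscreteTopology ↥M := DiscreteTopology.of_continuous_injective g.continuous g.injective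
  have key : ∀ x : ↥M, ∃ W : M.Opens, x ∈ W ∧ LocallyQuasiFinite (W.ι ≫ g ≫ q) ∧
      LocallyOfFiniteType (W.ι ≫ g ≫ q) := by
    intro x
    obtain ⟨V, hxV, hV, hVA, hVL, -⟩ := exists_local_artinian (U := Over.mk q) (g x)
    obtain ⟨W, hW, hxW, hWs⟩ := exists_isAffineOpen_mem_and_subset (x := x)
      (U := (⟨{x}, isOpen_discrete _⟩ : M.Opens)) rfl
    have : IsAffine V.toScheme := hV
    have : IsAffine W.toScheme := hW
    have hle : W ≤ g ⁻¹ᵁ V := fun y hy => by
      rw [show y = x from hWs hy]; exact hxV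
    let g' : W.toScheme ⟶ V.toScheme := IsOpenImmersion.lift V.ι (W.ι ≫ g) (by
      rintro _ ⟨y, rfl⟩; rw [Scheme.Opens.range_ι]; exact hle y.2)
    have hg' : g' ≫ V.ι = W.ι ≫ g := IsOpenImmersion.lift_fac _ _ _
    have : Mono (g' ≫ V.ι) := by rw [hg']; infer_instance
    have : Mono g' := mono_of_mono g' V.ι
    let φ := g'.appTop
    have : Mono (Spec.map φ) := by
      rw [show Spec.map φ = W.toScheme.isoSpec.inv ≫ g' ≫ V.toScheme.isoSpec.hom by
        rw [← Scheme.isoSpec_hom_naturality, Iso.inv_hom_id_assoc]]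
      infer_instance
    have : Epi φ := ⟨fun {Z} a b e => by
      apply Spec.map_injective
      rw [← cancel_mono (Spec.map φ), ← Spec.map_comp, ← Spec.map_comp, e]⟩
    have : IsArtinianRing Γ(V.toScheme, ⊤) := by
      have := hVA
      exact RingEquiv.isArtinianRing V.topIso.commRingCatIsoToRingEquiv.symm
    have : IsLocalRing Γ(V.toScheme, ⊤) := by
      have := hVL
      exact (V.topIso.commRingCatIsoToRingEquiv.symm).isLocalRing
    have hfin : IsFinite g' := by
      have : IsClosedImmersion g' :=
        IsClosedImmersion.of_surjective_of_isAffine g' (surjective_of_epi φ)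
      infer_instance
    refine ⟨W, hxW, ?_, ?_⟩
    · rw [← reassoc_of% hg']; infer_instance
    · rw [← reassoc_of% hg']; infer_instance
  choose W hW h1 h2 using key
  have hcov : TopologicalSpace.IsOpenCover W := TopologicalSpace.IsOpenCover.mk
    (eq_top_iff.mpr fun x _ => TopologicalSpace.Opens.mem_iSup.mpr ⟨x, hW x⟩)
  exact ⟨IsZariskiLocalAtSource.of_openCover (P := @LocallyQuasiFinite) (M.openCoverOfIsOpenCover W hcov) h1,
    IsZariskiLocalAtSource.of_openCover (P := @LocallyOfFiniteType) (M.openCoverOfIsOpenCover W hcov) h2⟩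

end Groth.Agent.AlgSpCov.LqfField
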